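import Groth.Agent.SpecialExtLib.Main
import Groth.Prelude.Def_GLinSh

/-! Orbits and stabilisers along a torsor quotient by a normal subgroup. -/

set_option autoImplicit false
set_option backward.isDefEq.respectTransparency false
set_option linter.style.haveILetI false
set_option maxHeartbeats 800000

noncomputable section

universe u

open CategoryTheory CategoryTheory.Limits MonoidalCategory CartesianMonoidalCategory AlgebraicGeometry
open scoped MonObj

attribute [-instance] CategoryTheory.Hom.commGroup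

namespace Groth.Agent.TorsStab

variable {k : Type u} [Field k] {G N H X Y : Over (Spec (CommRingCat.of k))} [GrpObj G] [GrpObj N] [GrpObj H]
  {P : Over (Spec (CommRingCat.of k))}

theorem lift_psi (a : AlgGrp.Action G X) (x : P ⟶ X) {T : Over (Spec (CommRingCat.of k))} (g : T ⟶ G) (t : T ⟶ P) :
    lift g t ≫ GIT.psi a x = lift (lift g (t ≫ x) ≫ a.act) t := by
  rw [GIT.psi, comp_lift, lift_whiskerLeft_assoc, lift_snd]

variable [CharZero k] [IsAlgClosed k] [IsAffine G.left] [LocallyOfFiniteType G.hom]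
  (iN : N ⟶ G) [IsMonHom iN] [IsClosedImmersion iN.left]
  (q : G ⟶ H) [IsMonHom q] [Surjective q.left] [IsAffine H.left] [LocallyOfFiniteType H.hom]
  (hker : AlgGrp.IsKernel iN q)
  (a : AlgGrp.Action G X) (φ : X ⟶ Y)
  (hcart : IsPullback (a.restrict iN).act (snd N X) φ φ)
  (hloc : NonAbH1.IsLocallyTrivialFor Scheme.fpqcPrecoverage (Over.mk φ.left : Over Y.left))
  (aY : AlgGrp.Action H Y) (hequiv : (q ⊗ₘ φ) ≫ aY.act = a.act ≫ φ) (x : P ⟶ X)

include hker hcart hloc hequiv

theorem closed_and_finite_iff :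
    (IsClosed (Set.range (GIT.psi a x).left.base) ∧ IsFinite (GLinSh.stabTo a x)) ↔
      (IsClosed (Set.range (GIT.psi aY (x ≫ φ)).left.base) ∧ IsFinite (GLinSh.stabTo aY (x ≫ φ))) := by
  classical
  haveI : IsAffine N.left := isAffine_of_isAffineHom iN.left
  haveI : IsAffineHom N.hom := inferInstance
  haveI : Flat N.hom := Groth.Agent.GrpField.flat_field _
  haveI : Surjective N.hom := by
    refine ⟨fun p => ⟨(η[N]).left p, ?_⟩⟩
    haveI : Subsingleton (Spec (CommRingCat.of k)) := inferInstanceAs (Subsingleton (PrimeSpectrum k))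
    exact Subsingleton.elim _ _
  haveI : IsAffineHom φ.left :=
    FibBCLib.property_of_cart @IsAffineHom (a.restrict iN) φ hcart hloc inferInstance
  haveI : Flat φ.left := FibBCLib.property_of_cart @Flat (a.restrict iN) φ hcart hloc inferInstance
  haveI : Surjective φ.left := FibBCLib.property_of_cart @Surjective (a.restrict iN) φ hcart hloc inferInstance
  have sqφ := QuotRep.isPullback_whiskerRight φ P
  haveI : IsAffineHom (φ ▷ P).left := MorphismProperty.of_isPullback (P := @IsAffineHom) sqφ.flip ‹_›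
  haveI : Flat (φ ▷ P).left := MorphismProperty.of_isPullback (P := @Flat) sqφ.flip ‹_›
  haveI : Surjective (φ ▷ P).left := MorphismProperty.of_isPullback (P := @Surjective) sqφ.flip ‹_›
  haveI : Surjective (q ▷ P).left :=
    MorphismProperty.of_isPullback (P := @Surjective) (QuotRep.isPullback_whiskerRight q P).flip ‹_›
  haveI : IsReduced H.left := GrpSchLib.isReduced_of_isAlgClosed H
  haveI : QuasiCompact G.hom := inferInstance
  haveI : Flat q.left := AntiAffLib.flat_of_surjective q
  haveI : IsAffineHom q.left := inferInstance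
  haveI : Mono iN := Over.mono_of_mono_left iN
  have hcovq : MonoQuot.IsCov q.left := ⟨_, q.left, 𝟙 _, Category.id_comp _, inferInstance⟩
  have hiq : iN ≫ q = 1 := hker.w.trans (by rw [Hom.one_def])
  have hφ : ∀ {T : Over (Spec (CommRingCat.of k))} (g : T ⟶ G) (z : T ⟶ X),
      (lift g z ≫ a.act) ≫ φ = lift (g ≫ q) (z ≫ φ) ≫ aY.act := fun g z => by
    rw [Category.assoc, ← hequiv, lift_map_assoc]
  have hψ : GIT.psi a x ≫ (φ ▷ P) = (q ▷ P) ≫ GIT.psi aY (x ≫ φ) := by
    refine AlgGrp.Action.hom_ext_lift₂ fun T g t => ?_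
    rw [reassoc_of% lift_psi, lift_whiskerRight, hφ, ← Category.assoc, lift_whiskerRight, lift_psi,
      Category.assoc]
  have htrans : ∀ {T : Over (Spec (CommRingCat.of k))} (z z' : T ⟶ X), z ≫ φ = z' ≫ φ →
      ∃ n : T ⟶ N, lift (n ≫ iN) z' ≫ a.act = z := fun z z' h =>
    ⟨AssocBun.div hcart z' z h, by
      rw [← AlgGrp.Action.lift_restrict_act iN a]; exact AssocBun.div_spec hcart z' z h⟩
  -- orbits
  have hrange : Set.range (GIT.psi a x).left.base =
      (φ ▷ P).left.base ⁻¹' Set.range (GIT.psi aY (x ≫ φ)).left.base := by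
    ext z
    constructor
    · rintro ⟨w, rfl⟩
      refine ⟨(q ▷ P).left.base w, ?_⟩
      rw [← Scheme.Hom.comp_apply, ← Over.comp_left, ← hψ]
      rfl
    · rintro ⟨w', hw'⟩
      obtain ⟨w, rfl⟩ := (q ▷ P).left.surjective w'
      rw [← Scheme.Hom.comp_apply, ← Over.comp_left, ← hψ] at hw'
      have sq0 := (IsPullback.of_hasPullback (φ ▷ P) (GIT.psi a x ≫ (φ ▷ P))).map (Over.forget _)
      obtain ⟨p, hp1, -⟩ := Scheme.Pullback.exists_preimage_pullback (f := (φ ▷ P).left)
        (g := (GIT.psi a x ≫ (φ ▷ P)).left) z w hw'.symm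
      let p' := sq0.isoPullback.inv.base p
      have hp : (pullback.fst (φ ▷ P) (GIT.psi a x ≫ (φ ▷ P))).left.base p' = z := by
        refine Eq.trans ?_ hp1
        exact congrArg (fun m : pullback (φ ▷ P).left (GIT.psi a x ≫ (φ ▷ P)).left ⟶ (X ⊗ P).left => m.base p) sq0.isoPullback_inv_fst
      let u := pullback.fst (φ ▷ P) (GIT.psi a x ≫ (φ ▷ P))
      let v := pullback.snd (φ ▷ P) (GIT.psi a x ≫ (φ ▷ P))
      have huv : u ≫ (φ ▷ P) = (v ≫ GIT.psi a x) ≫ (φ ▷ P) := pullback.condition.trans (Category.assoc _ _ _).symm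
      obtain ⟨n, hn⟩ := htrans (u ≫ fst X P) ((v ≫ GIT.psi a x) ≫ fst X P) (by
        simpa only [Category.assoc, whiskerRight_fst] using congrArg (· ≫ fst Y P) huv)
      have hsnd : u ≫ snd X P = v ≫ snd G P := by
        have := congrArg (· ≫ snd Y P) huv
        simpa [GIT.psi] using this
      have e : lift ((n ≫ iN) * (v ≫ fst G P)) (v ≫ snd G P) ≫ GIT.psi a x = u := by
        rw [lift_psi, AlgGrp.Action.lift_mul_act, SpecialExt.eq_lift u, ← hn, hsnd]
        congr 3
        refine Eq.trans ?_ (congrArg (fun w => (w ≫ GIT.psi a x) ≫ fst X P) (SpecialExt.eq_lift v)).symm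
        rw [lift_psi, lift_fst]
      refine ⟨(lift ((n ≫ iN) * (v ≫ fst G P)) (v ≫ snd G P)).left.base p', ?_⟩
      rw [← Scheme.Hom.comp_apply, ← Over.comp_left, e]
      exact hp
  have hclosed : IsClosed (Set.range (GIT.psi a x).left.base) ↔
      IsClosed (Set.range (GIT.psi aY (x ≫ φ)).left.base) := by
    rw [hrange]
    refine ⟨fun h => ?_, fun h => h.preimage (φ ▷ P).left.continuous⟩
    refine isOpen_compl_iff.1 (DescLib.isOpen_of_isOpen_preimage (φ ▷ P).left ?_)
    rw [Set.preimage_compl]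
    exact h.isOpen_compl
  -- stabilisers
  let σG : P ⟶ X ⊗ P := lift x (𝟙 P)
  let σH : P ⟶ Y ⊗ P := lift (x ≫ φ) (𝟙 P)
  have hσ : σG ≫ (φ ▷ P) = σH := by simp only [σG, σH, lift_whiskerRight]
  let A := pullback (GIT.psi a x) σG
  let B := pullback (GIT.psi aY (x ≫ φ)) σH
  let κ : A ⟶ B := pullback.map (GIT.psi a x) σG (GIT.psi aY (x ≫ φ)) σH (q ▷ P) (𝟙 P) (φ ▷ P)
    hψ (by rw [Category.id_comp]; exact hσ)
  have hptA : ∀ {T : Over (Spec (CommRingCat.of k))} (b : T ⟶ A), ∃ (g : T ⟶ G) (t : T ⟶ P),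
      b ≫ pullback.fst _ _ = lift g t ∧ b ≫ pullback.snd _ _ = t ∧ lift g (t ≫ x) ≫ a.act = t ≫ x := by
    intro T b
    have h := congrArg (b ≫ ·) (pullback.condition (f := GIT.psi a x) (g := σG))
    simp only [← Category.assoc] at h
    rw [SpecialExt.eq_lift (b ≫ pullback.fst (GIT.psi a x) σG), lift_psi] at h
    simp only [σG, comp_lift, Category.comp_id] at h
    have ht : (b ≫ pullback.fst (GIT.psi a x) σG) ≫ snd G P = b ≫ pullback.snd (GIT.psi a x) σG := by
      simpa using congrArg (· ≫ snd X P) h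
    have hg := congrArg (· ≫ fst X P) h
    simp only [lift_fst] at hg
    rw [ht] at hg
    exact ⟨_, _, by rw [← ht]; exact SpecialExt.eq_lift _, rfl, hg⟩
  haveI : IsIso κ := by
    have huniq : ∀ {T : Over (Spec (CommRingCat.of k))} (g g' : T ⟶ G) (z : T ⟶ X),
        lift g z ≫ a.act = z → lift g' z ≫ a.act = z → g ≫ q = g' ≫ q → g = g' := by
      intro T g g' z hg hg' hq
      let n : T ⟶ N := hker.lift (g' * g⁻¹) (toUnit T)
        (by rw [MonObj.mul_comp, GrpObj.inv_comp, hq, mul_inv_cancel, Hom.one_def])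
      have hn : n ≫ iN = g' * g⁻¹ := hker.lift_fst _ _ _
      have hgn : g' = (n ≫ iN) * g := by rw [hn, inv_mul_cancel_right]
      have hn1 : n = 1 := AssocBun.act_cancel hcart (x := z) (by
        rw [AlgGrp.Action.lift_one_act, AlgGrp.Action.lift_restrict_act iN a]
        rw [hgn, AlgGrp.Action.lift_mul_act, hg] at hg'
        exact hg')
      rw [hgn, hn1, MonObj.one_comp, one_mul]
    have hinj : ∀ {T : Over (Spec (CommRingCat.of k))} (b b' : T ⟶ A), b ≫ κ = b' ≫ κ → b = b' := by
      intro T b b' e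
      obtain ⟨g, t, h1, h2, h3⟩ := hptA b
      obtain ⟨g', t', h1', h2', h3'⟩ := hptA b'
      have et : t = t' := by
        have := congrArg (· ≫ pullback.snd _ _) e
        simp only [κ, Category.assoc, pullback.map, pullback.lift_snd, Category.comp_id, h2, h2'] at this
        exact this
      subst et
      have eq : g ≫ q = g' ≫ q := by
        have := congrArg (fun m => m ≫ pullback.fst _ _ ≫ fst H P) e
        simp only [κ, Category.assoc, pullback.map, pullback.lift_fst_assoc, reassoc_of% h1, reassoc_of% h1',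
          whiskerRight_fst, lift_fst_assoc] at this
        exact this
      exact pullback.hom_ext (by rw [h1, h1', huniq g g' _ h3 h3' eq]) (h2.trans h2'.symm)
    have hsurj : ∀ {T : Over (Spec (CommRingCat.of k))} (b : T ⟶ B), ∃ b' : T ⟶ A, b' ≫ κ = b := by
      intro T b
      have hb := congrArg (b ≫ ·) (pullback.condition (f := GIT.psi aY (x ≫ φ)) (g := σH))
      simp only [← Category.assoc] at hb
      rw [SpecialExt.eq_lift (b ≫ pullback.fst (GIT.psi aY (x ≫ φ)) σH), lift_psi] at hb
      simp only [σH, comp_lift, Category.comp_id] at hb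
      set t := b ≫ pullback.snd (GIT.psi aY (x ≫ φ)) σH with ht'
      have ht : (b ≫ pullback.fst (GIT.psi aY (x ≫ φ)) σH) ≫ snd H P = t := by
        simpa using congrArg (· ≫ snd Y P) hb
      have hh := congrArg (· ≫ fst Y P) hb
      simp only [lift_fst] at hh
      rw [ht] at hh
      set h := (b ≫ pullback.fst (GIT.psi aY (x ≫ φ)) σH) ≫ fst H P with hdef
      obtain ⟨T', c, g₀, hc, hg₀⟩ := hcovq.exists_lift h
      obtain ⟨n, hn⟩ := htrans (c ≫ t ≫ x) (lift g₀ (c ≫ t ≫ x) ≫ a.act) (by
        rw [hφ, hg₀]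
        have h' := congrArg (c ≫ ·) hh
        simp only [comp_lift_assoc] at h'
        simp only [Category.assoc] at h' ⊢
        exact h'.symm)
      rw [← AlgGrp.Action.lift_mul_act] at hn
      obtain ⟨g, hg⟩ := hc.exists_desc ((n ≫ iN) * g₀) fun W u v e => by
        refine huniq _ _ ((u ≫ c) ≫ t ≫ x) ?_ ?_ ?_
        · simpa [comp_lift_assoc] using congrArg (u ≫ ·) hn
        · rw [e]; simpa [comp_lift_assoc] using congrArg (v ≫ ·) hn
        · rw [Category.assoc, Category.assoc, MonObj.mul_comp, Category.assoc, hiq, MonObj.comp_one, one_mul,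
            hg₀, reassoc_of% e]
      haveI := hc.epi_over
      have hgt : lift g (t ≫ x) ≫ a.act = t ≫ x := by
        rw [← cancel_epi c, comp_lift_assoc, hg, hn]
      have hgq : g ≫ q = h := by
        rw [← cancel_epi c, reassoc_of% hg, MonObj.mul_comp, Category.assoc, hiq, MonObj.comp_one, one_mul, hg₀]
      refine ⟨pullback.lift (lift g t) t (by rw [lift_psi, hgt, comp_lift, Category.comp_id]),
        pullback.hom_ext ?_ ?_⟩
      · rw [Category.assoc, pullback.lift_fst, pullback.lift_fst_assoc, lift_whiskerRight, hgq, hdef, ← ht]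
        exact (SpecialExt.eq_lift _).symm
      · rw [Category.assoc, pullback.lift_snd, pullback.lift_snd_assoc, Category.comp_id]
    obtain ⟨j, hj⟩ := hsurj (𝟙 B)
    exact ⟨j, hinj _ _ (by rw [Category.assoc, hj, Category.comp_id, Category.id_comp]), hj⟩
  haveI : IsIso κ.left := inferInstanceAs (IsIso ((Over.forget _).map κ))
  have hstab : IsFinite (GLinSh.stabTo a x) ↔ IsFinite (GLinSh.stabTo aY (x ≫ φ)) := by
    have eA := ((IsPullback.of_hasPullback (GIT.psi a x) σG).map (Over.forget _)).isoPullback_hom_snd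
    have eB := ((IsPullback.of_hasPullback (GIT.psi aY (x ≫ φ)) σH).map (Over.forget _)).isoPullback_hom_snd
    have eκ : κ.left ≫ (pullback.snd (GIT.psi aY (x ≫ φ)) σH).left = (pullback.snd (GIT.psi a x) σG).left := by
      rw [← Over.comp_left, pullback.lift_snd, Category.comp_id]
    unfold GLinSh.stabTo GLinSh.stab
    rw [← MorphismProperty.cancel_left_of_respectsIso @IsFinite
      ((IsPullback.of_hasPullback (GIT.psi a x) σG).map (Over.forget _)).isoPullback.hom]
    conv_rhs => rw [← MorphismProperty.cancel_left_of_respectsIso @IsFinite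
      ((IsPullback.of_hasPullback (GIT.psi aY (x ≫ φ)) σH).map (Over.forget _)).isoPullback.hom]
    erw [eA, eB]
    show IsFinite (pullback.snd (GIT.psi a x) σG).left ↔ IsFinite (pullback.snd (GIT.psi aY (x ≫ φ)) σH).left
    rw [← eκ, MorphismProperty.cancel_left_of_respectsIso @IsFinite]
  rw [hclosed, hstab]

end Groth.Agent.TorsStab
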